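import Cfsg.Agent.H116.CY.StA
import Cfsg.Agent.H116.RatB0.StExc

/-!
# S4829 : the elliptic primes of the untwisted exceptional groups (helper116)

`rowA_X_of_dvd` : `p ∣ Φ_m(q)` for one of the numbers `m` for which `Φ_m` divides the indices of all maximal parabolic
subgroups (`E₈` : 2, 3, 4, 5, 6, 8, 10, 12, 15, 20, 24, 30; `E₇` : 2, 6, 14, 18; `E₆` : 3, 6, 9, 12; `F₄` : 2, 3, 4, 6, 8,
12; `G₂` : 2, 3, 6); all automorphisms are allowed.
-/

set_option autoImplicit false
set_option linter.unusedSectionVars false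

namespace Cfsg.Agent.H116.CY

open CoxeterSystem Cfsg.Agent.ChevalleyStructure.CoxeterGeom Cfsg.Agent.Tits.Roots Cfsg.Agent.Tits.Core
  Cfsg.Agent.Tits.RootComb Cfsg.Agent.Nodes.Reps Cfsg.Agent.Nodes.BNOf
  Cfsg.Agent.Nodes.StabComb Cfsg.Agent.Nodes.Bruhat Cfsg.Agent.Nodes.LeviDec Cfsg.Agent.H35.Poin
  Cfsg.Agent.H35.PoinNum Cfsg.Agent.H35.ExcIdx Cfsg.Agent.H134.StrP
  Cfsg.Agent.ChevalleyStructure.CoxeterGeomTypes Cfsg.Lie
open Cfsg.Agent.Nodes.RGDChev Cfsg.Agent.ChevalleyStructure.NPerm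
open Cfsg.Agent.H116.RatB0 Cfsg.Agent.H770.CY

section Gen

universe u

variable {D : ChevalleyDatum} {l : ℕ} {M : CoxeterMatrix (Fin l)} (hp : IsType D l M) (K : Type u) [Field K]
  [Fintype K] {r f : ℕ} (hr : r.Prime) (hf : f ≠ 0) (hK : Fintype.card K = r ^ f) [CharP K r]

include hr hf hK in
theorem rowA_of_parOrd [Nonempty (Fin l)] [Fintype ↥(D.group K)] {g : ℕ} (hg : g ∣ r ^ f - 1)
    (hT : g * Nat.card (D.diagonalSubgroup K) = (r ^ f - 1) ^ D.rank) {dS : List ℕ} {N : ℕ}
    (hdS : ∀ d ∈ dS, 0 < d ∧ d < N) (hS : ∃ b, g * Nat.card (D.group K) = r ^ b * pr (r ^ f) dS)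
    {p m : ℕ} [hp' : Fact p.Prime] (hpr : p ≠ r) (hpm : (p : ℤ) ∣ E (r ^ f) m) (hm : m < N)
    (hall : ∀ k : Fin l, ∃ (J : List (Fin l)) (dJ : List ℕ), (∀ j, j ∈ J ↔ j ≠ k) ∧
      ((∀ (_ : Finite M.Group), RGD M.toCoxeterSystem hp.isCartan r (TT D K)
        (fun i => (⟨nn hp K i, nn_mem_group hp i⟩ : ↥(D.group K))) (XX D l K) →
        (∀ i, Nat.card (XX D l K (sr i)) = r ^ f) →
        ParOrd M.toCoxeterSystem hp.isCartan (TT D K) (XX D l K) (r ^ f) l J dJ)) ∧
      (∀ d ∈ dJ, 0 < d ∧ d < N) ∧ (∀ m < N, cnt dJ m ≤ cnt dS m) ∧ cnt dJ m < cnt dS m) :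
    RowA p ↥(D.group K) := by
  have : Fact r.Prime := ⟨hr⟩
  have hfin := finite_W hp M.toCoxeterSystem
  have hR := rgd (K := K) hp M.toCoxeterSystem r
  have h2 := two_le hr hf
  have hc : ∀ i, Nat.card (XX D l K (sr i)) = r ^ f := fun i => by
    rw [card_XX hp K M.toCoxeterSystem (isRoot_sr _ _ i), Nat.card_eq_fintype_card, hK]
  refine rowA_of_index hR (GG_eq_top hp K _) hpr fun k => ?_
  obtain ⟨J, dJ, e1, e2, e3, e4, e5⟩ := hall k
  have h3 : ({j | j ≠ k} : Set (Fin l)) = {j | j ∈ J} := by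
    ext j
    exact (e1 j).symm
  rw [h3]
  exact dvd_idx h2 hdS e3 (idx_of_parOrd hp K hr hf hK _ hg hT (fun d hd => (hdS d hd).1) hS (e2 hfin hR hc)) e4 hpm hm e5

end Gen

universe u

variable (K : Type u) [Field K] [Fintype K]

variable {K} {p : ℕ} [Fact p.Prime] (hpK : (p : K) ≠ 0)

include hpK in
theorem rowA_E8_of_dvd [Fintype ↥(chevE8.group K)] {m : ℕ} (hm : m ∈ [2, 3, 4, 5, 6, 8, 10, 12, 15, 20, 24, 30])
    (hd : (p : ℤ) ∣ E (Fintype.card K) m) : RowA p ↥(chevE8.group K) := by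
  obtain ⟨r, f, _, hr, hf, hK⟩ := exists_pow K
  rw [hK] at hd
  have h2 := two_le hr hf
  refine rowA_of_parOrd hpE8 K hr hf hK (g := 1) (one_dvd _)
    (by rw [← hK]; exact Cfsg.Agent.S1035.result rfl (chevE8, 1) (by simp))
    (dS := [2, 8, 12, 14, 18, 20, 24, 30]) (N := 31) (by decide) ⟨f * 120, ?_⟩ (ne_of_cast K hpK) hd ?_ ?_
  · have h3 := Cfsg.Agent.S1065.result hK
    rw [pow_mul]
    simp only [pr_cons, pr_nil]
    rw [one_mul, h3]
    ring
  · clear hd; revert m; decide
  · intro k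
    fin_cases k
    · exact ⟨_, _, by decide, fun _ R hs => oE8_1234567 R h2 hs, by decide, by decide, by clear hd; revert m; decide⟩
    · exact ⟨_, _, by decide, fun _ R hs => oE8_0234567 R h2 hs, by decide, by decide, by clear hd; revert m; decide⟩
    · exact ⟨_, _, by decide, fun _ R hs => oE8_0134567 R h2 hs, by decide, by decide, by clear hd; revert m; decide⟩
    · exact ⟨_, _, by decide, fun _ R hs => oE8_0124567 R h2 hs, by decide, by decide, by clear hd; revert m; decide⟩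
    · exact ⟨_, _, by decide, fun _ R hs => oE8_0123567 R h2 hs, by decide, by decide, by clear hd; revert m; decide⟩
    · exact ⟨_, _, by decide, fun _ R hs => oE8_0123467 R h2 hs, by decide, by decide, by clear hd; revert m; decide⟩
    · exact ⟨_, _, by decide, fun _ R hs => oE8_0123457 R h2 hs, by decide, by decide, by clear hd; revert m; decide⟩
    · exact ⟨_, _, by decide, fun _ R hs => oE8_0123456 R h2 hs, by decide, by decide, by clear hd; revert m; decide⟩

include hpK in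
theorem rowA_E7_of_dvd [Fintype ↥(chevE7.group K)] {m : ℕ} (hm : m ∈ [2, 6, 14, 18])
    (hd : (p : ℤ) ∣ E (Fintype.card K) m) : RowA p ↥(chevE7.group K) := by
  obtain ⟨r, f, _, hr, hf, hK⟩ := exists_pow K
  rw [hK] at hd
  have h2 := two_le hr hf
  refine rowA_of_parOrd hpE7 K hr hf hK (g := Nat.gcd 2 (r ^ f - 1)) (Nat.gcd_dvd_right _ _)
    (by rw [← hK]; exact Cfsg.Agent.S1035.result rfl (chevE7, Nat.gcd 2 (Fintype.card K - 1)) (by simp))
    (dS := [2, 6, 8, 10, 12, 14, 18]) (N := 31) (by decide) ⟨f * 63, ?_⟩ (ne_of_cast K hpK) hd ?_ ?_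
  · have h3 := Cfsg.Agent.S1064.result hK
    rw [pow_mul]
    simp only [pr_cons, pr_nil]
    rw [h3]
    ring
  · clear hd; revert m; decide
  · intro k
    fin_cases k
    · exact ⟨_, _, by decide, fun _ R hs => oE7_123456 R h2 hs, by decide, by decide, by clear hd; revert m; decide⟩
    · exact ⟨_, _, by decide, fun _ R hs => oE7_023456 R h2 hs, by decide, by decide, by clear hd; revert m; decide⟩
    · exact ⟨_, _, by decide, fun _ R hs => oE7_013456 R h2 hs, by decide, by decide, by clear hd; revert m; decide⟩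
    · exact ⟨_, _, by decide, fun _ R hs => oE7_012456 R h2 hs, by decide, by decide, by clear hd; revert m; decide⟩
    · exact ⟨_, _, by decide, fun _ R hs => oE7_012356 R h2 hs, by decide, by decide, by clear hd; revert m; decide⟩
    · exact ⟨_, _, by decide, fun _ R hs => oE7_012346 R h2 hs, by decide, by decide, by clear hd; revert m; decide⟩
    · exact ⟨_, _, by decide, fun _ R hs => oE7_012345 R h2 hs, by decide, by decide, by clear hd; revert m; decide⟩

include hpK in
theorem rowA_E6_of_dvd [Fintype ↥(chevE6.group K)] {m : ℕ} (hm : m ∈ [3, 6, 9, 12])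
    (hd : (p : ℤ) ∣ E (Fintype.card K) m) : RowA p ↥(chevE6.group K) := by
  obtain ⟨r, f, _, hr, hf, hK⟩ := exists_pow K
  rw [hK] at hd
  have h2 := two_le hr hf
  refine rowA_of_parOrd hpE6 K hr hf hK (g := Nat.gcd 3 (r ^ f - 1)) (Nat.gcd_dvd_right _ _)
    (by rw [← hK]; exact Cfsg.Agent.S1035.result rfl (chevE6, Nat.gcd 3 (Fintype.card K - 1)) (by simp))
    (dS := [2, 5, 6, 8, 9, 12]) (N := 31) (by decide) ⟨f * 36, ?_⟩ (ne_of_cast K hpK) hd ?_ ?_
  · have h3 := Cfsg.Agent.S1063.result hK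
    rw [pow_mul]
    simp only [pr_cons, pr_nil]
    rw [h3]
    ring
  · clear hd; revert m; decide
  · intro k
    fin_cases k
    · exact ⟨_, _, by decide, fun _ R hs => oE6_12345 R h2 hs, by decide, by decide, by clear hd; revert m; decide⟩
    · exact ⟨_, _, by decide, fun _ R hs => oE6_02345 R h2 hs, by decide, by decide, by clear hd; revert m; decide⟩
    · exact ⟨_, _, by decide, fun _ R hs => oE6_01345 R h2 hs, by decide, by decide, by clear hd; revert m; decide⟩
    · exact ⟨_, _, by decide, fun _ R hs => oE6_01245 R h2 hs, by decide, by decide, by clear hd; revert m; decide⟩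
    · exact ⟨_, _, by decide, fun _ R hs => oE6_01235 R h2 hs, by decide, by decide, by clear hd; revert m; decide⟩
    · exact ⟨_, _, by decide, fun _ R hs => oE6_01234 R h2 hs, by decide, by decide, by clear hd; revert m; decide⟩

include hpK in
theorem rowA_F4_of_dvd [Fintype ↥(chevF4.group K)] {m : ℕ} (hm : m ∈ [2, 3, 4, 6, 8, 12])
    (hd : (p : ℤ) ∣ E (Fintype.card K) m) : RowA p ↥(chevF4.group K) := by
  obtain ⟨r, f, _, hr, hf, hK⟩ := exists_pow K
  rw [hK] at hd
  have h2 := two_le hr hf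
  refine rowA_of_parOrd hpF4 K hr hf hK (g := 1) (one_dvd _)
    (by rw [← hK]; exact Cfsg.Agent.S1035.result rfl (chevF4, 1) (by simp))
    (dS := [2, 6, 8, 12]) (N := 31) (by decide) ⟨f * 24, ?_⟩ (ne_of_cast K hpK) hd ?_ ?_
  · have h3 := Cfsg.Agent.S1062.result hK
    rw [pow_mul]
    simp only [pr_cons, pr_nil]
    rw [one_mul, h3]
    ring
  · clear hd; revert m; decide
  · intro k
    fin_cases k
    · exact ⟨_, _, by decide, fun _ R hs => oF4_123 R h2 hs, by decide, by decide, by clear hd; revert m; decide⟩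
    · exact ⟨_, _, by decide, fun _ R hs => oF4_023 R h2 hs, by decide, by decide, by clear hd; revert m; decide⟩
    · exact ⟨_, _, by decide, fun _ R hs => oF4_013 R h2 hs, by decide, by decide, by clear hd; revert m; decide⟩
    · exact ⟨_, _, by decide, fun _ R hs => oF4_012 R h2 hs, by decide, by decide, by clear hd; revert m; decide⟩

include hpK in
theorem rowA_G2_of_dvd [Fintype ↥(chevG2.group K)] {m : ℕ} (hm : m ∈ [2, 3, 6])
    (hd : (p : ℤ) ∣ E (Fintype.card K) m) : RowA p ↥(chevG2.group K) := by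
  obtain ⟨r, f, _, hr, hf, hK⟩ := exists_pow K
  rw [hK] at hd
  have h2 := two_le hr hf
  refine rowA_of_parOrd hpG2 K hr hf hK (g := 1) (one_dvd _)
    (by rw [← hK]; exact Cfsg.Agent.S1035.result rfl (chevG2, 1) (by simp))
    (dS := [2, 6]) (N := 31) (by decide) ⟨f * 6, ?_⟩ (ne_of_cast K hpK) hd ?_ ?_
  · have h3 := Cfsg.Agent.S1059.result hK
    rw [pow_mul]
    simp only [pr_cons, pr_nil]
    rw [one_mul, h3]
    ring
  · clear hd; revert m; decide
  · intro k
    fin_cases k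
    · exact ⟨_, _, by decide, fun _ R hs => oG2_1 R h2 hs, by decide, by decide, by clear hd; revert m; decide⟩
    · exact ⟨_, _, by decide, fun _ R hs => oG2_0 R h2 hs, by decide, by decide, by clear hd; revert m; decide⟩

end Cfsg.Agent.H116.CY
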