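import Cfsg.Agent.H116.CY.TorQ
import Cfsg.Agent.H116.RatB0.RowsFin

/-!
# S4829 : `E₈(q)`, `F₄(q)`, `G₂(q)` up to the case `p ∣ q - 1` (helper116)
-/

set_option autoImplicit false
set_option linter.unusedSectionVars false

namespace Cfsg.Agent.H116.CY

open Cfsg Cfsg.Lie Cfsg.Agent.H35.PoinNum Cfsg.Agent.H116.RatB0 Cfsg.Agent.H770.CY

universe u

variable {p : ℕ} [hp : Fact p.Prime]

theorem rowA_E8_of {F : Type} [Field F] [Fintype F] (hpF : (p : F) ≠ 0) [Fintype ↥(chevE8.group F)]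
    (hG : p ∣ Nat.card ↥(chevE8.group F)) (hc : ∀ P : Sylow p ↥(chevE8.group F), ¬ IsCyclic P)
    (h1 : p ∣ Fintype.card F - 1 → RowA p ↥(chevE8.group F)) : RowA p ↥(chevE8.group F) := by
  have h2 := ord_cases_E8 hpF hG hc
  by_cases h4 : orderOf ((Fintype.card F : ℕ) : ZMod p) = 1
  · exact h1 (dvd_of_ord_one Fintype.card_pos h4)
  · refine rowA_E8_of_dvd hpF (m := orderOf ((Fintype.card F : ℕ) : ZMod p)) ?_ (dvd_E (not_dvd_card hpF))
    clear hc hG h1
    generalize orderOf ((Fintype.card F : ℕ) : ZMod p) = d at h2 h4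
    revert d
    decide

theorem rowA_F4_of {F : Type} [Field F] [Fintype F] (hpF : (p : F) ≠ 0) [Fintype ↥(chevF4.group F)]
    (hG : p ∣ Nat.card ↥(chevF4.group F)) (h1 : p ∣ Fintype.card F - 1 → RowA p ↥(chevF4.group F)) :
    RowA p ↥(chevF4.group F) := by
  have h2 := ord_mem_F4 hpF hG
  by_cases h4 : orderOf ((Fintype.card F : ℕ) : ZMod p) = 1
  · exact h1 (dvd_of_ord_one Fintype.card_pos h4)
  · refine rowA_F4_of_dvd hpF (m := orderOf ((Fintype.card F : ℕ) : ZMod p)) ?_ (dvd_E (not_dvd_card hpF))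
    clear hG h1
    generalize orderOf ((Fintype.card F : ℕ) : ZMod p) = d at h2 h4
    revert d
    decide

theorem rowA_G2_of {F : Type} [Field F] [Fintype F] (hpF : (p : F) ≠ 0) [Fintype ↥(chevG2.group F)]
    (hG : p ∣ Nat.card ↥(chevG2.group F)) (h1 : p ∣ Fintype.card F - 1 → RowA p ↥(chevG2.group F)) :
    RowA p ↥(chevG2.group F) := by
  have h2 := ord_mem_G2 hpF hG
  by_cases h4 : orderOf ((Fintype.card F : ℕ) : ZMod p) = 1
  · exact h1 (dvd_of_ord_one Fintype.card_pos h4)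
  · refine rowA_G2_of_dvd hpF (m := orderOf ((Fintype.card F : ℕ) : ZMod p)) ?_ (dvd_E (not_dvd_card hpF))
    clear hG h1
    generalize orderOf ((Fintype.card F : ℕ) : ZMod p) = d at h2 h4
    revert d
    decide

end Cfsg.Agent.H116.CY
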