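import Cfsg.Agent.H541.RatB0.RowOne
import Cfsg.Agent.H116.CY.ExcA

/-!
# S4829, `p ∣ q - 1` : the centralizer of the `p`-torsion of the torus (helper116; the computation is helper541's)

* `cent_chev`, `cent_G2` … `cent_E8` : `C(Q) ≤ T` for `Q` the elements of order dividing `p` of the torus `T`;
* `norm_QQ` : `n_i` normalizes `Q`; `isPGroup_QQ`, `QQ_le`.
-/

set_option autoImplicit false
set_option linter.unusedSectionVars false

namespace Cfsg.Agent.H116.CY

open CoxeterSystem Cfsg Cfsg.Lie Cfsg.Lie.ChevalleyDatum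
open Cfsg.Agent.ChevalleyStructure Cfsg.Agent.ChevalleyStructure.Elts Cfsg.Agent.ChevalleyStructure.CoxeterGeom
  Cfsg.Agent.ChevalleyStructure.CoxeterGeomTypes Cfsg.Agent.ChevalleyStructure.NPerm
open Cfsg.Agent.Tits.Roots Cfsg.Agent.Tits.Core Cfsg.Agent.Nodes Cfsg.Agent.Nodes.Reps Cfsg.Agent.Nodes.BNOf
  Cfsg.Agent.Nodes.RGDChev Cfsg.Agent.Nodes.Bruhat Cfsg.Agent.Nodes.NormalForm Cfsg.Agent.Nodes.StabComb
  Cfsg.Agent.Nodes.LeviDec
open Cfsg.Agent.KFacts.RgdField Cfsg.Agent.KFacts.RgdChevCoord Cfsg.Agent.BpExc.TorCent Cfsg.Agent.BpExc.TorChev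
open Cfsg.Agent.BpExc.TowChev Cfsg.Agent.H129.TorusChar Cfsg.Agent.H932.BR
open Cfsg.Agent.H541.RatB0 Cfsg.Agent.H116.RatB0
open Cfsg.Agent.H35.ExcIdx (hpF4 hpE6 hpE7 hpE8)

universe u

section Main

variable {D : ChevalleyDatum} {l : ℕ} {M : CoxeterMatrix (Fin l)} (hp : IsType D l M)
  {W : Type*} [Group W] (cs : CoxeterSystem M W) {K : Type u} [Field K] [Finite K]

include hp

theorem QQ_le (p : ℕ) : QQ hp K p ≤ TT D K := fun _ hx => hx.1

theorem isPGroup_QQ (p : ℕ) : IsPGroup p (QQ hp K p) := fun x => ⟨1, by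
  rw [pow_one]
  exact Subtype.ext x.2.2⟩

include cs in
theorem norm_QQ (p r : ℕ) [Fact r.Prime] [CharP K r] (i : Fin l) (x : ↥(D.group K)) (hx : x ∈ QQ hp K p) :
    (⟨nn hp K i, nn_mem_group hp i⟩ : ↥(D.group K)) * x * (⟨nn hp K i, nn_mem_group hp i⟩ : ↥(D.group K))⁻¹ ∈
      QQ hp K p := by
  have : Fintype K := Fintype.ofFinite K
  have := finite_W hp cs
  have hR := rgd (K := K) hp cs r
  refine ⟨(Subgroup.mem_normalizer_iff.1 (hR.nsys.norm i) x).1 hx.1, ?_⟩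
  rw [conj_pow, hx.2, mul_one, mul_inv_cancel]

include cs

theorem cent_chev [Nonempty (Fin l)] {p : ℕ} [hpp : Fact p.Prime] (hd : p ∣ Nat.card K - 1) {t : ℤ → Bool}
    (ht : ∀ d, t d = true → ¬ (p : ℤ) ∣ d) {S : List ℕ} (hS : ∀ s ∈ S, s < D.nroots)
    (hgen : ∀ f : (Fin l → ℤ) →ₗ[ℤ] (Fin l → ℤ), (∀ s ∈ S, f (vec D l s) = vec D l s) → ∀ i, f (sr i) = sr i)
    (hchk : chk D t S = true) :
    Subgroup.centralizer ((QQ hp K p : Subgroup ↥(D.group K)) : Set ↥(D.group K)) ≤ TT D K := by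
  classical
  unfold chk at hchk
  rw [Bool.and_eq_true, List.all_eq_true] at hchk
  obtain ⟨h1, h2⟩ := hchk
  obtain ⟨r, hr⟩ := CharP.exists K
  haveI : Fintype K := Fintype.ofFinite K
  have hrp : r.Prime := CharP.char_is_prime K r
  haveI : Fact r.Prime := ⟨hrp⟩
  haveI := finite_W hp cs
  obtain ⟨n, -, hn⟩ := FiniteField.card K r
  have hq1 : 1 < Nat.card K := Finite.one_lt_card
  have hpr : p ≠ r := by
    rintro rfl
    have h3 : p ∣ Nat.card K := by rw [Nat.card_eq_fintype_card, hn]; exact dvd_pow_self p n.ne_zero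
    have h4 := Nat.dvd_sub h3 hd
    rw [Nat.sub_sub_self hq1.le] at h4
    exact hpp.out.one_lt.ne' (Nat.dvd_one.1 h4)
  -- a root of unity of order `p`
  have hdvd : p ∣ Nat.card Kˣ := by rw [Nat.card_units]; exact hd
  obtain ⟨z, hz⟩ := exists_prime_orderOf_dvd_card' (G := Kˣ) p hdvd
  have hζ0 : (z : K) ≠ 0 := z.ne_zero
  have hζ : (z : K) ^ p = 1 := by
    rw [← Units.val_pow_eq_pow_val, ← hz, pow_orderOf_eq_one, Units.val_one]
  have hζz : ∀ m : ℤ, (z : K) ^ m = 1 → (p : ℤ) ∣ m := by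
    intro m hm
    rw [← hz]
    apply orderOf_dvd_iff_zpow_eq_one.2
    apply Units.ext
    rw [Units.val_zpow_eq_zpow_val, hm, Units.val_one]
  have hcent : Subgroup.centralizer ((QQ hp K p : Subgroup ↥(D.group K)) : Set ↥(D.group K)) ≤ TT D K := by
    refine cent_le_TT hp cs r (fun x hx => hx.1) ?_ ?_
    · intro x hx
      obtain ⟨s, hs, rfl⟩ := (isRoot_iff hp cs x).1 hx
      obtain ⟨i, hi, h3⟩ := anyL_spec (allL_spec h1 s hs)
      rw [hp.rank_eq] at hi
      refine ⟨hc hp ⟨i, hi⟩ (z : K), hc_mem_QQ hp hζ0 hζ _, ?_⟩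
      rw [cX_hc hp _ hζ0, pairing_vec hp _ hs]
      exact fun h4 => ht _ h3 (hζz _ h4)
    · intro w hw
      have h3 : ∀ s ∈ S, rep cs hp.isCartan w (vec D l s) = vec D l s := by
        intro s hs
        have hs' := hS s hs
        obtain ⟨r', hr', he⟩ := (isRoot_iff hp cs _).1 ((isRoot_vec hp cs hs').act w)
        rw [← he]
        have h4 := allL_spec (h2 s hs) r' hr'
        rw [Bool.or_eq_true, beq_iff_eq] at h4
        rcases h4 with h4 | h4
        · rw [h4]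
        · exfalso
          obtain ⟨j, hj, h5⟩ := anyL_spec h4
          rw [hp.rank_eq] at hj
          refine ht _ h5 (hζz _ ?_)
          have h6 := hw _ (hc_mem_QQ hp hζ0 hζ ⟨j, hj⟩) (vec D l s)
          rw [← he, cX_hc hp _ hζ0, cX_hc hp _ hζ0, pairing_vec hp _ hr', pairing_vec hp _ hs'] at h6
          rw [zpow_sub₀ hζ0, h6, div_self (zpow_ne_zero _ hζ0)]
      exact eq_one_of_fix cs hp.isCartan w (hgen _ h3)
  exact hcent

end Main

theorem cent_simp {D : ChevalleyDatum} {l : ℕ} {M : CoxeterMatrix (Fin l)} (hp : IsType D l M) [Nonempty (Fin l)]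
    {W : Type*} [Group W] (cs : CoxeterSystem M W) {K : Type u} [Field K] [Finite K] {p : ℕ} [hpp : Fact p.Prime]
    (hp2 : p ≠ 2) (hd : p ∣ Nat.card K - 1)
    (h : chk D t3 (simp D) = true ∧ chk D t5 (simp D) = true ∧ chk D t7 (simp D) = true) :
    Subgroup.centralizer ((QQ hp K p : Subgroup ↥(D.group K)) : Set ↥(D.group K)) ≤ TT D K := by
  obtain ⟨t, ht, ht'⟩ := exists_test hpp.out hp2
  have hchk : chk D t (simp D) = true := by
    rcases ht with rfl | rfl | rfl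
    · exact h.1
    · exact h.2.1
    · exact h.2.2
  refine cent_chev hp cs hd ht' (S := simp D) ?_ ?_ hchk
  · intro s hs
    obtain ⟨i, hi, rfl⟩ := List.mem_map.1 hs
    rw [List.mem_range] at hi
    exact simple_lt hp.inList hi
  · intro f hf i
    have h1 := hf (D.simple i) (List.mem_map.2 ⟨i, List.mem_range.2 (lt_rank hp i), rfl⟩)
    rwa [vec_simple hp i] at h1

variable {K : Type u} [Field K] [Finite K] {p : ℕ} [Fact p.Prime]

theorem cent_G2 (hp2 : p ≠ 2) (hd : p ∣ Nat.card K - 1) :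
    Subgroup.centralizer ((QQ hpG2 K p : Subgroup ↥(chevG2.group K)) : Set ↥(chevG2.group K)) ≤ TT chevG2 K := by
  have hpp : p.Prime := Fact.out
  obtain ⟨t, ht, ht'⟩ := exists_test hpp hp2
  have hchk : chk chevG2 t [7, 8] = true := by
    rcases ht with rfl | rfl | rfl
    · exact chk_G2.1
    · exact chk_G2.2.1
    · exact chk_G2.2.2
  refine cent_chev hpG2 CoxeterMatrix.G₂.toCoxeterSystem hd ht' (S := [7, 8]) ?_ ?_ hchk
  · intro s hs
    have : ∀ s ∈ [7, 8], s < chevG2.nroots := by decide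
    exact this s hs
  · intro f hf
    have h7 := hf 7 (by simp)
    have h8 := hf 8 (by simp)
    rw [vec_G2.2] at h7
    rw [vec_G2.1, map_add, h7] at h8
    intro i
    fin_cases i
    · exact h7
    · exact add_left_cancel h8

theorem cent_F4 (hp2 : p ≠ 2) (hd : p ∣ Nat.card K - 1) :
    Subgroup.centralizer ((QQ hpF4 K p : Subgroup ↥(chevF4.group K)) : Set ↥(chevF4.group K)) ≤ TT chevF4 K :=
  cent_simp hpF4 CoxeterMatrix.F₄.toCoxeterSystem hp2 hd chk_F4

theorem cent_E6 (hp2 : p ≠ 2) (hd : p ∣ Nat.card K - 1) :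
    Subgroup.centralizer ((QQ hpE6 K p : Subgroup ↥(chevE6.group K)) : Set ↥(chevE6.group K)) ≤ TT chevE6 K :=
  cent_simp hpE6 CoxeterMatrix.E₆.toCoxeterSystem hp2 hd chk_E6

theorem cent_E7 (hp2 : p ≠ 2) (hd : p ∣ Nat.card K - 1) :
    Subgroup.centralizer ((QQ hpE7 K p : Subgroup ↥(chevE7.group K)) : Set ↥(chevE7.group K)) ≤ TT chevE7 K :=
  cent_simp hpE7 CoxeterMatrix.E₇.toCoxeterSystem hp2 hd chk_E7

theorem cent_E8 (hp2 : p ≠ 2) (hd : p ∣ Nat.card K - 1) :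
    Subgroup.centralizer ((QQ hpE8 K p : Subgroup ↥(chevE8.group K)) : Set ↥(chevE8.group K)) ≤ TT chevE8 K :=
  cent_simp hpE8 CoxeterMatrix.E₈.toCoxeterSystem hp2 hd chk_E8

end Cfsg.Agent.H116.CY
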