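import Cfsg.Agent.H770.CY.Defs
import Cfsg.Agent.OddOrderCharacters.Galois
import Cfsg.Agent.Blocks.LocalRing

/-!
# S4829 : a witness from an integer valued character of `A` irreducible on `S` (helper116)

* `cyc_of_int` : an integer valued character is `p`-cyclotomic;
* `witA_of_int` : `WitA` from an integer valued character of `A` which is irreducible on `S`.
-/

set_option autoImplicit false

namespace Cfsg.Agent.H116.CY

open Cfsg Cfsg.Agent.H770.CY Cfsg.Agent.Characters.Core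

universe u

theorem cyc_of_int {G : Type u} [Group G] [Finite G] {χ : G → ℂ} (hχ : IsCharacter G χ)
    (hint : ∀ g, ∃ z : ℤ, χ g = z) (p : ℕ) : Cyc p χ := by
  intro k hk _ g
  obtain ⟨σ, hσ⟩ := Cfsg.Agent.Characters.Galois.exists_ringEquiv_complex Nat.card_pos.ne' hk
  have h1 := OddOrderCharacters.GaloisTwist.map_apply σ Nat.card_pos.ne' hσ hχ g pow_card_eq_one'
  obtain ⟨z, hz⟩ := hint g
  rw [hz, map_intCast] at h1
  rw [← h1, hz]

/-- the multiplicity is the inner product -/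
theorem mul_eq {G : Type u} [Group G] [Fintype G] (ψ θ : G → ℂ) : mul ψ θ = classInner ψ θ := by
  rw [classInner_def]
  rfl

/-- a function which is an irreducible character -/
theorem mf_of_irr {p : ℕ} {S : Type u} [Group S] [Fintype S] {A : Subgroup (MulAut S)}
    {hA : ∀ s : S, MulAut.conj s ∈ A} {Ψ : A → ℂ} (h : IsIrrCharacter S (res hA Ψ)) (h1 : res hA Ψ ≠ fun _ => 1)
    (hc : Cyc p (res hA Ψ)) (θ : IrrCharacter S) : mul (res hA Ψ) (θ : S → ℂ) = 0 ∨
    (mul (res hA Ψ) (θ : S → ℂ) = 1 ∧ (θ : S → ℂ) ≠ (fun _ => 1) ∧ Cyc p (θ : S → ℂ)) := by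
  rw [mul_eq]
  by_cases he : res hA Ψ = (θ : S → ℂ)
  · right
    rw [← he]
    exact ⟨classInner_irr_self h, h1, hc⟩
  · left
    exact classInner_irr_ne h θ.2 he

/-- **a witness from an integer valued character of `A` irreducible on `S`** -/
theorem witA_of_int {p : ℕ} [Fact p.Prime] {M : Ideal AlgInt} (hM : IsPModular p M) {S : Type u} [Group S] [Fintype S]
    {A : Subgroup (MulAut S)} (hA : ∀ s : S, MulAut.conj s ∈ A) (th : A → ℤ)
    (h1 : IsIrrCharacter A (fun a => (th a : ℂ)))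
    (h2 : IsIrrCharacter S (fun s => (th ⟨MulAut.conj s, hA s⟩ : ℂ))) {N : ℕ} (hd : th 1 = N) (hN : N ≠ 1)
    (hpN : ¬ p ∣ N)
    (hloc : ∀ a : A, ¬ p ∣ orderOf a → (∃ Q : Sylow p S, ∀ x ∈ Q, (a : MulAut S) x = x) → th a ≡ th 1 [ZMOD p]) :
    WitA p M S A hA (fun a => (th a : ℂ)) := by
  have hfin : Finite A := inferInstance
  refine ⟨isIrr_isCharacter h1, cyc_of_int (isIrr_isCharacter h1) (fun a => ⟨th a, rfl⟩) p,
    ⟨N, by rw [hd]; push_cast; rfl, hpN⟩, ?_, ?_⟩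
  · refine mf_of_irr h2 ?_ (cyc_of_int (isIrr_isCharacter h2) (fun s => ⟨_, rfl⟩) p)
    intro h3
    have h4 := congrFun h3 1
    have h5 : (⟨MulAut.conj (1 : S), hA 1⟩ : A) = 1 := Subtype.ext (map_one _)
    have h6 : ((th ⟨MulAut.conj (1 : S), hA 1⟩ : ℤ) : ℂ) = 1 := h4
    rw [h5, hd] at h6
    apply hN
    have h7 : ((N : ℕ) : ℂ) = ((1 : ℕ) : ℂ) := by push_cast; push_cast at h6; exact h6
    exact_mod_cast h7
  · intro a ha hQ
    have h3 : ((th a : ℤ) : ℂ) - ((th 1 : ℤ) : ℂ) = ((th a - th 1 : ℤ) : ℂ) := by push_cast; rfl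
    show MemLocalIdeal M (((th a : ℤ) : ℂ) - ((th 1 : ℤ) : ℂ))
    rw [h3, Blocks.LocalRing.memLocalIdeal_intCast_iff hM]
    exact Int.modEq_iff_dvd.1 (hloc a ha hQ).symm

end Cfsg.Agent.H116.CY
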